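import Cfsg.Agent.H951.Rl.ExtSL

/-!
# Normalisers of extension fields (S3691, PSL-4', PSL-12b)

* `card_ext_sl` : `(q - 1) |N(K) ∩ SL| ≤ s q^(n²/s)`;
* `ext_sq` : `n = s ≥ 3` prime, `ord_s(q) = s - 1`: `s²` does not divide `|N(K)|`.
-/

set_option autoImplicit false

namespace Cfsg.Agent.H813.Rl

open Cfsg Cfsg.Geo Matrix Module
open scoped MatrixGroups

variable {F : Type} [Field F] [Fintype F]

/-- PSL-4' -/
theorem card_ext_sl {ι : Type} [Fintype ι] [DecidableEq ι] [Nonempty ι] {s : ℕ} (hs : s.Prime) (hsn : s ∣ Fintype.card ι)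
    {K : Subalgebra F (Matrix ι ι F)} (hK : IsFieldSubalgebra s K) :
    (Fintype.card F - 1) * Nat.card (subalgebraNormalizer K ⊓ specialLinear ι F : Subgroup (GL ι F)) ≤
      s * Fintype.card F ^ (Fintype.card ι ^ 2 / s) := by
  have _ := hs
  have _ := hsn
  rw [mul_comm]
  exact H951.Rl.card_ext_sl_le hK

/-- a matrix of prime order `s` over a field of `q` elements, `q ≢ 1 mod s`, has a nonzero fixed vector if `n = s` -/
theorem exists_fixed {ι : Type} [Fintype ι] [DecidableEq ι] {s : ℕ} (hs : s.Prime) (hn : Fintype.card ι = s)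
    (hq : ¬ Fintype.card F ≡ 1 [MOD s]) {g : GL ι F} (hg : g ^ s = 1) :
    ∃ v : ι → F, v ≠ 0 ∧ (g : Matrix ι ι F) *ᵥ v = v := by
  classical
  have : Fact s.Prime := ⟨hs⟩
  by_contra hcon
  push Not at hcon
  let f : Function.End (ι → F) := fun v => (g : Matrix ι ι F) *ᵥ v
  have hf : ∀ k : ℕ, ∀ v, (f ^ k) v = ((g ^ k : GL ι F) : Matrix ι ι F) *ᵥ v := by
    intro k
    induction k with
    | zero =>
      intro v
      rw [pow_zero, pow_zero, Units.val_one, Matrix.one_mulVec]
      rfl
    | succ k ih =>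
      intro v
      have h1 : (f ^ (k + 1)) v = (f ^ k) (f v) := by rw [pow_succ]; rfl
      rw [h1, ih, pow_succ, Units.val_mul]
      show _ *ᵥ ((g : Matrix ι ι F) *ᵥ v) = _
      rw [Matrix.mulVec_mulVec]
  have hf1 : f ^ s ^ 1 = 1 := by
    rw [pow_one]
    funext v
    rw [hf, hg, Units.val_one, Matrix.one_mulVec]
    rfl
  have h1 := Equiv.Perm.card_fixedPoints_modEq (f := f) (n := 1) hf1
  have h2 : Fintype.card f.fixedPoints = 1 := by
    rw [Fintype.card_eq_one_iff]
    refine ⟨⟨0, ?_⟩, ?_⟩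
    · show (g : Matrix ι ι F) *ᵥ (0 : ι → F) = 0
      simp
    · rintro ⟨v, hv⟩
      apply Subtype.ext
      by_contra h0
      exact hcon v h0 hv
  rw [h2, Fintype.card_fun, hn] at h1
  apply hq
  refine Nat.ModEq.trans ?_ h1
  rw [← ZMod.natCast_eq_natCast_iff]
  push_cast
  rw [ZMod.pow_card]

/-- PSL-12b -/
theorem ext_sq {ι : Type} [Fintype ι] [DecidableEq ι] {s : ℕ} (hs : s.Prime) (hn : Fintype.card ι = s) (hn3 : 3 ≤ s)
    {K : Subalgebra F (Matrix ι ι F)} (hK : IsFieldSubalgebra s K) (hord : orderOf ((Fintype.card F : ℕ) : ZMod s) = s - 1) :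
    ¬ s ^ 2 ∣ Nat.card (subalgebraNormalizer K) := by
  classical
  have hne : Nonempty ι := Fintype.card_pos_iff.1 (by omega)
  have hfin : Finite (GL ι F) := inferInstance
  have : Fact s.Prime := ⟨hs⟩
  have hN : H912.NormAlg (subalgebraNormalizer K) K := fun _ hh a ha => (hh a).mp ha
  let _ : Field K := (H912.isField_of_fieldSub hK).toField
  have hfd : Module.Finite F K := inferInstance
  have hKfin : Finite K := Module.finite_of_finite F
  have hgal : IsGalois F K := inferInstance
  let φ : subalgebraNormalizer K →* (K ≃ₐ[F] K) :=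
    { toFun := fun h => H912.conjSub hN h
      map_one' := by
        apply AlgEquiv.ext
        intro x
        apply Subtype.ext
        rw [H912.conjSub_coe]
        simp
      map_mul' := fun a b => by
        apply AlgEquiv.ext
        intro x
        apply Subtype.ext
        rw [AlgEquiv.mul_apply, H912.conjSub_coe, H912.conjSub_coe, H912.conjSub_coe, Subgroup.coe_mul,
          _root_.mul_inv_rev, Units.val_mul, Units.val_mul]
        simp only [Matrix.mul_assoc] }
  let ψ : K →ₐ[F] Module.End F (ι → F) := (Matrix.toLinAlgEquiv' (R := F) (n := ι)).toAlgHom.comp K.val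
  have hψ : ∀ (a : K) (v : ι → F), ψ a v = (a : Matrix ι ι F) *ᵥ v := fun a v => rfl
  have hmem : ∀ g : φ.ker, ∀ (a : K) (v : ι → F),
      (((g : subalgebraNormalizer K) : GL ι F) : Matrix ι ι F) *ᵥ (ψ a v) =
        ψ a ((((g : subalgebraNormalizer K) : GL ι F) : Matrix ι ι F) *ᵥ v) := by
    intro g a v
    have h1 : (H912.conjSub hN (g : subalgebraNormalizer K)) = 1 := g.2
    have h2 := H912.conjSub_coe hN (g : subalgebraNormalizer K) a
    rw [h1] at h2
    change (a : Matrix ι ι F) = _ at h2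
    rw [hψ, hψ, Matrix.mulVec_mulVec, Matrix.mulVec_mulVec]
    congr 1
    conv_rhs => rw [h2]
    rw [Matrix.mul_assoc, ← Units.val_mul, inv_mul_cancel, Units.val_one, Matrix.mul_one]
  have hKs : finrank F K = s := hK.finrank_eq
  have h1d : finrank K (H954.FieldSub.VS ψ) = 1 := by
    have h1 := H954.FieldSub.finrank_VS ψ
    rw [Module.finrank_fintype_fun_eq_card, hn, hKs] at h1
    exact Nat.eq_of_mul_eq_mul_left hs.pos (by rw [h1, mul_one])
  have hq : ¬ Fintype.card F ≡ 1 [MOD s] := by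
    intro h
    rw [← ZMod.natCast_eq_natCast_iff] at h
    rw [h, Nat.cast_one, orderOf_one] at hord
    omega
  have hker : ¬ s ∣ Nat.card φ.ker := by
    intro hdvd
    obtain ⟨g, hg⟩ := exists_prime_orderOf_dvd_card' s hdvd
    have hgs : ((g : subalgebraNormalizer K) : GL ι F) ^ s = 1 := by
      have h1 : g ^ s = 1 := by rw [← hg]; exact pow_orderOf_eq_one g
      have h2 := congrArg (fun x : φ.ker => ((x : subalgebraNormalizer K) : GL ι F)) h1
      simpa using h2
    obtain ⟨v, hv0, hv⟩ := exists_fixed hs hn hq hgs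
    have hall := (finrank_eq_one_iff_of_nonzero' (K := K) (V := H954.FieldSub.VS ψ) v hv0).1 h1d
    have h1 : ((g : subalgebraNormalizer K) : GL ι F) = 1 := by
      apply Units.ext
      apply Matrix.ext_of_mulVec_single
      intro i
      obtain ⟨c, hc⟩ := hall (Pi.single i 1 : ι → F)
      have hc' : ψ c v = (Pi.single i 1 : ι → F) := hc
      rw [← hc', hmem, hv, Units.val_one, Matrix.one_mulVec]
    have h2 : g = 1 := Subtype.ext (Subtype.ext h1)
    rw [h2, orderOf_one] at hg
    omega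
  have hran : Nat.card φ.range ∣ s := by
    have h1 : Nat.card (K ≃ₐ[F] K) = s := by
      rw [IsGalois.card_aut_eq_finrank, hK.finrank_eq]
    rw [← h1]
    exact Subgroup.card_subgroup_dvd_card _
  have h1 := Subgroup.card_eq_card_quotient_mul_card_subgroup φ.ker
  have h2 : Nat.card (subalgebraNormalizer K ⧸ φ.ker) = Nat.card φ.range :=
    Nat.card_congr (QuotientGroup.quotientKerEquivRange φ).toEquiv
  intro hdvd
  rw [h1, h2] at hdvd
  apply hker
  have h3 : Nat.Coprime (s ^ 2) (Nat.card φ.ker) := Nat.Coprime.pow_left 2 ((Nat.Prime.coprime_iff_not_dvd hs).2 hker)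
  have h4 : s ^ 2 ∣ Nat.card φ.range := h3.dvd_of_dvd_mul_right hdvd
  have h5 := Nat.le_of_dvd hs.pos (h4.trans hran)
  have h6 : s < s ^ 2 := by nlinarith
  omega

end Cfsg.Agent.H813.Rl
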